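import Cfsg.Agent.H242.KKL.OddIdx
import Cfsg.Agent.H581.KKL.BOne

/-!
# S4546, B5 and B6: final (helper242, task 5707; B1 by helper581)
-/

set_option autoImplicit false

namespace Cfsg.Agent.H242.KKL

open Cfsg Cfsg.Agent.H613.KKL

universe u

theorem b1S : B1S.{u} := fun hM _ hB _ hD h8 N _ b hb hst hcov hDN =>
  Cfsg.Agent.H581.KKL.B1 hM hB hD h8 N b hb hst hcov hDN

section B
variable {G : Type u} [Group G] [Finite G] {M : Ideal AlgInt} (hM : IsPModular 2 M) {B : Set (IrrCharacter G)}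
  (hB : IsPBlock M B) {D : Subgroup G} (hD : IsDefectGroup 2 M B D) (h8 : E8 D)
include hM hB hD h8

/-- B5: no 2-layers (from S4640 and B1). -/
theorem B5 (L H : Subgroup G) [L.Normal] [H.Normal] (hLH : L ≤ H) (hDL : D ≤ L)
    (h2 : ∃ k : ℕ, L.relIndex H = 2 ^ k)
    (hst : ∀ N : Subgroup G, N.Normal → ∀ b : Set (IrrCharacter ↥N), IsPBlock M b → Cov N b B →
      ∀ g : G, StabilizesBlock N b g) : L = H :=
  B5_of hM hB hD h8 b1S L H hLH hDL h2 hst

/-- B6: normal subgroups of odd index. -/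
theorem B6 (N : Subgroup G) [N.Normal] (hodd : Odd N.index) (hz : HZ ↥N) (b : Set (IrrCharacter ↥N))
    (hb : IsPBlock M b) (hst : ∀ g : G, StabilizesBlock N b g) (hcov : Cov N b B) :
    ∀ χ ∈ B, blockHeight 2 B (χ : G → ℂ) = 0 :=
  B6_of hM hB hD h8 b1S N hodd hz b hb hst hcov

end B

end Cfsg.Agent.H242.KKL
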