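import Cfsg.Agent.H613.KKL.Defs
import Cfsg.Agent.OddOrderCharacters.PF9.CliffGen
import Cfsg.Agent.H700.NormNil
import Cfsg.Agent.S4640
import Cfsg.Agent.S0964
import Cfsg.Agent.S0887
import Cfsg.Agent.S4455

/-!
# S4546, B5 and B6 (helper242, task 5707)

* `B1S` : the statement B1 of `tools/plans/S4546_stubs.lean.txt`;
* `B5_of` : no 2-layers, from B1 and S4640;
* `B6_of` : normal subgroups of odd index, from B1.
-/

set_option autoImplicit false
set_option linter.unusedSectionVars false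

namespace Cfsg.Agent.H242.KKL

open Cfsg Cfsg.Agent.H613.KKL
open Cfsg.Agent.Characters.Core
open Cfsg.Agent.Blocks.Basic (charDegree_of_eq irr_one_eq_charDegree charDegree_pos)
open Cfsg.Agent.OddOrderCharacters.PF9.CliffGen

universe u

/-- the statement B1 -/
def B1S : Prop := ∀ {G : Type u} [Group G] [Finite G] {M : Ideal AlgInt}, IsPModular 2 M →
  ∀ {B : Set (IrrCharacter G)}, IsPBlock M B → ∀ {D : Subgroup G}, IsDefectGroup 2 M B D → E8 D →
  ∀ (N : Subgroup G) [N.Normal] (b : Set (IrrCharacter ↥N)), IsPBlock M b → (∀ g : G, StabilizesBlock N b g) →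
    Cov N b B → D ≤ N → IsDefectGroup 2 M b (D.subgroupOf N)

section B
variable {G : Type u} [Group G] [Finite G] {M : Ideal AlgInt} (hM : IsPModular 2 M) {B : Set (IrrCharacter G)}
  (hB : IsPBlock M B) {D : Subgroup G} (hD : IsDefectGroup 2 M B D) (h8 : E8 D)
include hM hB hD h8

theorem e8_comm {a b : G} (ha : a ∈ D) (hb : b ∈ D) : a * b = b * a := by
  have h1 := h8.inv a ha
  have h2 := h8.inv b hb
  have h3 := h8.inv (a * b) (mul_mem ha hb)
  have e1 : a⁻¹ = a := inv_eq_of_mul_eq_one_left h1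
  have e2 : b⁻¹ = b := inv_eq_of_mul_eq_one_left h2
  have e3 : (a * b)⁻¹ = a * b := inv_eq_of_mul_eq_one_left h3
  rw [mul_inv_rev, e1, e2] at e3
  exact e3.symm

/-- the defect group is a 2-group -/
theorem e8_pgroup : IsPGroup 2 ↥D := by
  rw [IsPGroup.iff_card]
  exact ⟨3, by rw [h8.card]; norm_num⟩

/-- **B6** : normal subgroups of odd index -/
theorem B6_of (hB1 : B1S.{u}) (N : Subgroup G) [N.Normal] (hodd : Odd N.index) (hz : HZ ↥N)
    (b : Set (IrrCharacter ↥N)) (hb : IsPBlock M b) (hst : ∀ g : G, StabilizesBlock N b g) (hcov : Cov N b B) :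
    ∀ χ ∈ B, blockHeight 2 B (χ : G → ℂ) = 0 := by
  classical
  have h2 : Fact (Nat.Prime 2) := ⟨Nat.prime_two⟩
  -- `D ≤ N`
  have hDN : D ≤ N := by
    intro d hd
    rw [← QuotientGroup.eq_one_iff (N := N), ← orderOf_eq_one_iff, ← Nat.dvd_one]
    have h3 : orderOf (d : G ⧸ N) ∣ 2 := orderOf_dvd_of_pow_eq_one (by
      rw [pow_two, ← QuotientGroup.mk_mul, h8.inv d hd, QuotientGroup.mk_one])
    have h4 : orderOf (d : G ⧸ N) ∣ N.index := by
      rw [Subgroup.index_eq_card]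
      exact orderOf_dvd_natCard _
    have h5 : Nat.Coprime 2 N.index := (Nat.coprime_two_left).2 hodd
    rw [← h5.gcd_eq_one]
    exact Nat.dvd_gcd h3 h4
  have hDb := hB1 hM hB hD h8 N b hb hst hcov hDN
  have h8b : E8 (D.subgroupOf N) := by
    refine ⟨?_, ?_⟩
    · rw [Nat.card_congr (Subgroup.subgroupOfEquivOfLe hDN).toEquiv, h8.card]
    · intro d hd
      exact Subtype.ext (h8.inv d (Subgroup.mem_subgroupOf.1 hd))
  have hz' := hz M hM b hb _ hDb h8b
  let _ : Fintype ↥N := Fintype.ofFinite _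
  let _ : Fintype G := Fintype.ofFinite _
  obtain ⟨χ₀, hχ₀, θ₀, hθ₀, hne⟩ := hcov
  -- the 2-parts of the degrees in `b`
  set c := (charDegree (θ₀ : ↥N → ℂ)).factorization 2 with hc
  have hbc : ∀ θ ∈ b, (charDegree (θ : ↥N → ℂ)).factorization 2 = c := by
    have key : ∀ θ ∈ b, (charDegree (θ : ↥N → ℂ)).factorization 2 =
        sInf ((fun ψ : IrrCharacter ↥N => (charDegree (ψ : ↥N → ℂ)).factorization 2) '' b) := by
      intro θ hθ
      have h3 := hz' θ hθ
      have h4 : sInf ((fun ψ : IrrCharacter ↥N => (charDegree (ψ : ↥N → ℂ)).factorization 2) '' b) ≤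
          (charDegree (θ : ↥N → ℂ)).factorization 2 := Nat.sInf_le ⟨θ, hθ, rfl⟩
      unfold blockHeight at h3
      omega
    intro θ hθ
    rw [key θ hθ, hc, key θ₀ hθ₀]
  -- the 2-parts of the degrees in `B`
  have hBc : ∀ χ ∈ B, (charDegree (χ : G → ℂ)).factorization 2 = c := by
    intro χ hχ
    obtain ⟨ψ, hψ, hψn⟩ := S4455.exists_constituent
      (Cfsg.Agent.Characters.Clifford.isCharacter_restrict N (isIrr_isCharacter χ.2)) (isIrr_apply_one_ne_zero χ.2)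
    obtain ⟨h3, h4⟩ := S0887.result N χ.1 χ.2 ψ hψ hψn (charDegree χ.1) (charDegree ψ)
      (irr_one_eq_charDegree χ.2) (irr_one_eq_charDegree hψ)
    obtain ⟨g, θ', hθ', hg⟩ := S0964.result 2 M hM N B hB b hb χ₀ hχ₀ θ₀ hθ₀ hne χ hχ ⟨ψ, hψ⟩ hψn
    have h5 : charDegree ψ = charDegree (θ' : ↥N → ℂ) := by
      have h6 := hg 1
      have h7 : (⟨g * ((1 : ↥N) : G) * g⁻¹, ‹N.Normal›.conj_mem _ (1 : ↥N).2 g⟩ : ↥N) = 1 := by
        apply Subtype.ext
        simp
      rw [h7] at h6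
      have h8 : ψ 1 = (θ' : ↥N → ℂ) 1 := h6
      unfold charDegree
      rw [h8]
    obtain ⟨e, he⟩ := h3
    have hpos := charDegree_pos hψ
    rw [he, Nat.mul_div_cancel_left _ hpos] at h4
    have h6 : ¬ 2 ∣ e := by
      intro h7
      have h9 := h7.trans h4
      rw [Nat.odd_iff] at hodd
      omega
    change (charDegree χ.1).factorization 2 = c
    have hepos : e ≠ 0 := by
      rintro rfl
      exact h6 (dvd_zero 2)
    rw [he, Nat.factorization_mul hpos.ne' hepos, Finsupp.add_apply, Nat.factorization_eq_zero_of_not_dvd h6, add_zero,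
      h5]
    exact hbc θ' hθ'
  intro χ hχ
  unfold blockHeight
  rw [hBc χ hχ]
  have h3 : sInf ((fun ψ : IrrCharacter G => (charDegree (ψ : G → ℂ)).factorization 2) '' B) = c := by
    have h4 : (fun ψ : IrrCharacter G => (charDegree (ψ : G → ℂ)).factorization 2) '' B = {c} := by
      ext k
      constructor
      · rintro ⟨ψ, hψ, rfl⟩
        exact hBc ψ hψ
      · intro hk
        rw [Set.mem_singleton_iff.1 hk]
        exact ⟨χ, hχ, hBc χ hχ⟩
    rw [h4, csInf_singleton]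
  rw [h3, Nat.sub_self]

/-- **B5** : no 2-layers -/
theorem B5_of (hB1 : B1S.{u}) (L H : Subgroup G) [L.Normal] [H.Normal] (hLH : L ≤ H) (hDL : D ≤ L)
    (h2 : ∃ k : ℕ, L.relIndex H = 2 ^ k)
    (hst : ∀ N : Subgroup G, N.Normal → ∀ b : Set (IrrCharacter ↥N), IsPBlock M b → Cov N b B →
      ∀ g : G, StabilizesBlock N b g) : L = H := by
  classical
  have h2p : Fact (Nat.Prime 2) := ⟨Nat.prime_two⟩
  have hprime : M.IsPrime := hM.2.1.isPrime
  let _ : Fintype G := Fintype.ofFinite _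
  let _ : Fintype ↥L := Fintype.ofFinite _
  let _ : Fintype ↥H := Fintype.ofFinite _
  let _ : Fintype ↥(L.subgroupOf H) := Fintype.ofFinite _
  obtain ⟨χ, hBχ⟩ := hB
  have hχ : χ ∈ B := by
    rw [hBχ]
    exact Blocks.Basic.mem_blockOf_self χ
  have hB : IsPBlock M B := ⟨χ, hBχ⟩
  -- constituents
  obtain ⟨θ, hθ, hθn⟩ := S4455.exists_constituent
    (Cfsg.Agent.Characters.Clifford.isCharacter_restrict L (isIrr_isCharacter χ.2)) (isIrr_apply_one_ne_zero χ.2)
  obtain ⟨ψ, hψ, hψn, hψθ⟩ := exists_constituent (K := G) hLH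
    (χ := fun n : ↥H => (χ : G → ℂ) n)
    (Cfsg.Agent.Characters.Clifford.isCharacter_restrict H (isIrr_isCharacter χ.2)) (θ := θ) hθn
  -- the blocks
  set bL : Set (IrrCharacter ↥L) := blockOf M θ with hbL
  set bH : Set (IrrCharacter ↥H) := blockOf M ψ with hbH
  have hbL1 : IsPBlock M bL := ⟨⟨θ, hθ⟩, rfl⟩
  have hbH1 : IsPBlock M bH := ⟨⟨ψ, hψ⟩, rfl⟩
  have hcL : Cov L bL B := ⟨χ, hχ, ⟨θ, hθ⟩, Blocks.Basic.mem_blockOf_self ⟨θ, hθ⟩, hθn⟩
  have hcH : Cov H bH B := ⟨χ, hχ, ⟨ψ, hψ⟩, Blocks.Basic.mem_blockOf_self ⟨ψ, hψ⟩, hψn⟩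
  have hsL := hst L ‹_› bL hbL1 hcL
  have hsH := hst H ‹_› bH hbH1 hcH
  have hDH : D ≤ H := hDL.trans hLH
  have hdefH := hB1 hM hB hD h8 H bH hbH1 hsH hcH hDH
  -- `L` as a subgroup of `H`
  let e : ↥(L.subgroupOf H) ≃* ↥L := Subgroup.subgroupOfEquivOfLe hLH
  have hθ' : IsIrrCharacter ↥(L.subgroupOf H) (down L H θ) := isIrr_comp (e : ↥(L.subgroupOf H) →* ↥L) e.surjective hθ
  set b' : Set (IrrCharacter ↥(L.subgroupOf H)) := blockOf M (down L H θ) with hb'
  have hb'1 : IsPBlock M b' := ⟨⟨_, hθ'⟩, rfl⟩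
  have hst' : ∀ h : ↥H, StabilizesBlock (L.subgroupOf H) b' h := by
    intro h
    refine ⟨by rw [Subgroup.normalizer_eq_top]; trivial, ?_⟩
    intro η hη
    -- `η` as a character of `L`
    have hη1 : IsIrrCharacter ↥L (fun x : ↥L => (η : ↥(L.subgroupOf H) → ℂ) (e.symm x)) :=
      isIrr_comp (e.symm : ↥L →* ↥(L.subgroupOf H)) e.symm.surjective η.2
    have hη2 : (⟨_, hη1⟩ : IrrCharacter ↥L) ∈ bL := by
      have h3 : SameBlock M (down L H θ) (η : ↥(L.subgroupOf H) → ℂ) := hη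
      have h4 := H700.NormNil.sameBlock_comp e.symm h3
      exact h4
    obtain ⟨η₂, hη₂, hc⟩ := (hsL (h : G)).2 _ hη2
    refine ⟨⟨down L H (η₂ : ↥L → ℂ), isIrr_comp (e : ↥(L.subgroupOf H) →* ↥L) e.surjective η₂.2⟩, ?_, ?_⟩
    · have h3 : SameBlock M θ (η₂ : ↥L → ℂ) := hη₂
      exact H700.NormNil.sameBlock_comp e h3
    · intro k k' hk
      have h3 := hc (e k) (e k') (congrArg Subtype.val hk)
      change (η₂ : ↥L → ℂ) (e k') = (η : ↥(L.subgroupOf H) → ℂ) k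
      rw [h3]
      change (η : ↥(L.subgroupOf H) → ℂ) (e.symm (e k)) = _
      rw [e.symm_apply_apply]
  have hcov' : ∃ χ ∈ bH, ∃ θ ∈ b', classInner (fun n : ↥(L.subgroupOf H) => (χ : ↥H → ℂ) n)
      (θ : ↥(L.subgroupOf H) → ℂ) ≠ 0 := by
    refine ⟨⟨ψ, hψ⟩, Blocks.Basic.mem_blockOf_self ⟨ψ, hψ⟩, ⟨_, hθ'⟩,
      Blocks.Basic.mem_blockOf_self ⟨_, hθ'⟩, ?_⟩
    change classInner (down L H (resTo hLH ψ)) (down L H θ) ≠ 0
    rw [classInner_down hLH]
    exact hψθ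
  obtain ⟨h3, -⟩ := S4640.result 2 M hM (L.subgroupOf H) h2 b' hb'1 hst' bH hbH1 hcov' (D.subgroupOf H) hdefH (by
    intro x hx y hy
    exact Subtype.ext (e8_comm hM hB hD h8 (Subgroup.mem_subgroupOf.1 hx) (Subgroup.mem_subgroupOf.1 hy)))
  refine le_antisymm hLH ?_
  have h4 : D.subgroupOf H ≤ L.subgroupOf H := fun x hx => hDL hx
  rw [sup_eq_left.2 h4, Subgroup.subgroupOf_eq_top] at h3
  exact h3

end B

end Cfsg.Agent.H242.KKL
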